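import Cfsg.Agent.Lib.Perm.Jordan
import Cfsg.Agent.Lib.SmallSimple.Order168
import Cfsg.Agent.Lib.SmallSimple.Low
import Mathlib.GroupTheory.SpecificGroups.Alternating.Simple
import Mathlib.GroupTheory.GroupAction.MultiplePrimitivity
import Mathlib.GroupTheory.Transfer

set_option autoImplicit false
set_option linter.style.haveILetI false

/-!
# Primitive groups containing long prime cycles, small degrees
-/

namespace Cfsg.Agent.TwoCycles

open Equiv Equiv.Perm MulAction Pointwise

/-! ## Sylow counting -/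

section counting

variable {H : Type*} [Group H] [Finite H]

theorem characteristic_or_many {p : ℕ} [Fact p.Prime] (hp : p ∣ Nat.card H)
    (hp2 : ¬ p ^ 2 ∣ Nat.card H) :
    (∃ N : Subgroup H, N.Characteristic ∧ Nat.card N = p) ∨
      (p + 1) * (p - 1) ≤ Nat.card {g : H // orderOf g = p} := by
  have hcard : ∀ P : Sylow p H, Nat.card (P : Subgroup H) = p := fun P => by
    have h1 := (Fact.out : p.Prime).factorization_pos_of_dvd Nat.card_pos.ne' hp
    have h2 : ¬ 2 ≤ (Nat.card H).factorization p := fun h =>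
      hp2 (((Fact.out : p.Prime).pow_dvd_iff_le_factorization Nat.card_pos.ne').2 h)
    rw [P.card_eq_multiplicity, show (Nat.card H).factorization p = 1 by omega, pow_one]
  by_cases h1 : Nat.card (Sylow p H) = 1
  · left
    haveI := (Nat.card_eq_one_iff_unique.1 h1).1
    let P : Sylow p H := default
    exact ⟨P, P.characteristic_of_normal (Sylow.normal_of_subsingleton P), hcard P⟩
  · right
    rw [SmallSimple.card_orderOf_eq_prime hcard]
    refine Nat.mul_le_mul_right _ ?_
    have hm := card_sylow_modEq_one p H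
    have hpos : 0 < Nat.card (Sylow p H) := Nat.card_pos
    have hdiv := Nat.div_add_mod (Nat.card (Sylow p H)) p
    rw [Nat.ModEq, Nat.one_mod_eq_one.2 (Fact.out : p.Prime).ne_one] at hm
    rcases Nat.eq_zero_or_pos (Nat.card (Sylow p H) / p) with h | h
    · rw [h] at hdiv; omega
    · have := Nat.mul_le_mul_left p h
      omega

theorem characteristic_or_five (h4 : 4 ∣ Nat.card H) (h8 : ¬ 8 ∣ Nat.card H) :
    (∃ N : Subgroup H, N.Characteristic ∧ Nat.card N = 4) ∨
      5 ≤ Nat.card {g : H // g ^ 4 = 1} := by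
  classical
  haveI : Fact (Nat.Prime 2) := ⟨Nat.prime_two⟩
  haveI := Fintype.ofFinite H
  have hcard : ∀ P : Sylow 2 H, Nat.card (P : Subgroup H) = 4 := fun P => by
    have h1 : 2 ≤ (Nat.card H).factorization 2 :=
      (Nat.prime_two.pow_dvd_iff_le_factorization Nat.card_pos.ne').1 h4
    have h2 : ¬ 3 ≤ (Nat.card H).factorization 2 := fun h =>
      h8 ((Nat.prime_two.pow_dvd_iff_le_factorization Nat.card_pos.ne').2 h)
    rw [P.card_eq_multiplicity, show (Nat.card H).factorization 2 = 2 by omega]
    rfl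
  let P : Sylow 2 H := default
  by_cases hu : ∀ Q : Sylow 2 H, Q = P
  · left
    haveI : Subsingleton (Sylow 2 H) := ⟨fun a b => (hu a).trans (hu b).symm⟩
    exact ⟨P, P.characteristic_of_normal (Sylow.normal_of_subsingleton P), hcard P⟩
  · right
    push Not at hu
    obtain ⟨Q, hQ⟩ := hu
    obtain ⟨y, hyQ, hyP⟩ : ∃ y ∈ (Q : Subgroup H), y ∉ (P : Subgroup H) := by
      by_contra hc
      push Not at hc
      exact hQ (Sylow.ext (Subgroup.eq_of_le_of_card_ge (fun z hz => hc z hz)
        (by rw [hcard, hcard])))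
    have hpow : ∀ (R : Sylow 2 H) (z : H), z ∈ (R : Subgroup H) → z ^ 4 = 1 := fun R z hz => by
      have h := orderOf_dvd_natCard (⟨z, hz⟩ : (R : Subgroup H))
      rw [hcard, Subgroup.orderOf_mk, orderOf_dvd_iff_pow_eq_one] at h
      exact h
    let f : Option (P : Subgroup H) → {g : H // g ^ 4 = 1} := fun o =>
      o.elim ⟨y, hpow Q y hyQ⟩ fun z => ⟨z, hpow P z z.2⟩
    have hf : Function.Injective f := by
      rintro (_ | a) (_ | b) h
      · rfl
      · exact absurd b.2 fun hb => hyP (by
          rw [show y = (b : H) from congrArg Subtype.val h]; exact hb)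
      · exact absurd a.2 fun ha => hyP (by
          rw [show y = (a : H) from (congrArg Subtype.val h).symm]; exact ha)
      · rw [show a = b from Subtype.ext (congrArg (fun w : {g : H // g ^ 4 = 1} => (w : H)) h)]
    have h5 := Nat.card_le_card_of_injective f hf
    rwa [Finite.card_option, hcard] at h5

theorem card_add_le {A B : H → Prop} (hd : ∀ g, A g → B g → False) :
    Nat.card {g : H // A g} + Nat.card {g : H // B g} ≤ Nat.card {g : H // A g ∨ B g} := by
  rw [← Nat.card_sum]
  refine Nat.card_le_card_of_injective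
    (Sum.elim (fun g => ⟨g.1, Or.inl g.2⟩) fun g => ⟨g.1, Or.inr g.2⟩) ?_
  rintro (⟨a, ha⟩ | ⟨a, ha⟩) (⟨b, hb⟩ | ⟨b, hb⟩) h <;>
    simp only [Sum.elim_inl, Sum.elim_inr, Subtype.mk.injEq] at h <;> subst h
  · rfl
  · exact (hd _ ha hb).elim
  · exact (hd _ hb ha).elim
  · rfl

theorem card_subtype_le (P : H → Prop) : Nat.card {g : H // P g} ≤ Nat.card H :=
  Nat.card_le_card_of_injective Subtype.val Subtype.val_injective

theorem small_characteristic (hn : Nat.card H = 6 ∨ Nat.card H = 12 ∨ Nat.card H = 30) :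
    ∃ N : Subgroup H, N.Characteristic ∧ N ≠ ⊥ ∧ ¬ 6 ∣ Nat.card N := by
  haveI : Fact (Nat.Prime 3) := ⟨Nat.prime_three⟩
  haveI : Fact (Nat.Prime 5) := ⟨by norm_num⟩
  have fin : ∀ {p : ℕ}, 1 < p → ¬ 6 ∣ p → (∃ N : Subgroup H, N.Characteristic ∧ Nat.card N = p) →
      ∃ N : Subgroup H, N.Characteristic ∧ N ≠ ⊥ ∧ ¬ 6 ∣ Nat.card N := by
    rintro p hp h6 ⟨N, hN, hc⟩
    exact ⟨N, hN, fun e => by rw [e, Subgroup.card_bot] at hc; omega, hc ▸ h6⟩
  rcases characteristic_or_many (H := H) (p := 3) (by omega) (by omega) with h | h3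
  · exact fin (by norm_num) (by norm_num) h
  rcases hn with hn | hn | hn
  · have := card_subtype_le (H := H) (fun g => orderOf g = 3)
    omega
  · rcases characteristic_or_five (H := H) (by omega) (by omega) with h | h4
    · exact fin (by norm_num) (by norm_num) h
    · have h := (card_add_le (H := H) (A := fun g => orderOf g = 3) (B := fun g => g ^ 4 = 1)
        (fun g ha hb => by
          have := orderOf_dvd_of_pow_eq_one hb
          rw [ha] at this; norm_num at this)).trans (card_subtype_le _)
      omega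
  · rcases characteristic_or_many (H := H) (p := 5) (by omega) (by omega) with h | h5
    · exact fin (by norm_num) (by norm_num) h
    · have h := (card_add_le (H := H) (A := fun g => orderOf g = 3) (B := fun g => orderOf g = 5)
        (fun g ha hb => by omega)).trans (card_subtype_le _)
      omega

theorem normal_of_card_132 (hn : Nat.card H = 132) :
    ∃ N : Subgroup H, N.Normal ∧ N ≠ ⊥ ∧ ¬ 12 ∣ Nat.card N := by
  haveI : Fact (Nat.Prime 3) := ⟨Nat.prime_three⟩
  haveI : Fact (Nat.Prime 11) := ⟨by norm_num⟩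
  have fin : ∀ {p : ℕ}, 1 < p → ¬ 12 ∣ p → (∃ N : Subgroup H, N.Characteristic ∧ Nat.card N = p) →
      ∃ N : Subgroup H, N.Normal ∧ N ≠ ⊥ ∧ ¬ 12 ∣ Nat.card N := by
    rintro p hp h6 ⟨N, hN, hc⟩
    exact ⟨N, inferInstance, fun e => by rw [e, Subgroup.card_bot] at hc; omega, hc ▸ h6⟩
  rcases characteristic_or_many (H := H) (p := 11) (by omega) (by omega) with h | h11
  · exact fin (by norm_num) (by norm_num) h
  rcases characteristic_or_many (H := H) (p := 3) (by omega) (by omega) with h | h3
  · exact fin (by norm_num) (by norm_num) h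
  rcases characteristic_or_five (H := H) (by omega) (by omega) with h | h4
  · exact fin (by norm_num) (by norm_num) h
  have h1 := (card_add_le (H := H) (A := fun g => orderOf g = 3) (B := fun g => g ^ 4 = 1)
    (fun g ha hb => by have := orderOf_dvd_of_pow_eq_one hb; rw [ha] at this; norm_num at this))
  have h2 := (card_add_le (H := H) (A := fun g => orderOf g = 11)
    (B := fun g => orderOf g = 3 ∨ g ^ 4 = 1) (fun g ha hb => by
      rcases hb with hb | hb
      · omega
      · have := orderOf_dvd_of_pow_eq_one hb; rw [ha] at this; norm_num at this)).trans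
    (card_subtype_le _)
  omega

end counting

/-! ## Permutation groups -/

variable {α : Type*} [Fintype α] [DecidableEq α]

/-- A normal subgroup of a group that is doubly transitive on `Ω` (and fixes the rest). -/
theorem dvd_card_of_normal (H : Subgroup (Perm α)) (N : Subgroup H) [hNn : N.Normal] (hN : N ≠ ⊥)
    (Ω : Finset α) (hfix : ∀ h ∈ H, ∀ z, z ∉ Ω → h z = z)
    (h2 : ∀ z ∈ Ω, ∀ u ∈ Ω, ∀ v ∈ Ω, u ≠ z → v ≠ z → ∃ h ∈ H, h z = z ∧ h u = v) :
    Ω.card ∣ Nat.card N := by
  classical
  obtain ⟨n, hn, hn1⟩ := N.bot_or_exists_ne_one.resolve_left hN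
  obtain ⟨z, hz⟩ : ∃ z, (n : Perm α) z ≠ z := by
    by_contra hc
    push Not at hc
    exact hn1 (Subtype.ext (Equiv.ext hc))
  have hzΩ : z ∈ Ω := by_contra fun h => hz (hfix _ n.2 z h)
  have hnzΩ : (n : Perm α) z ∈ Ω := by_contra fun h =>
    hz ((n : Perm α).injective (hfix _ n.2 _ h))
  have horb : MulAction.orbit N z = (Ω : Set α) := by
    ext v
    constructor
    · rintro ⟨k, rfl⟩
      by_contra hv
      have h1 := hfix _ (k : H).2 _ hv
      have h2 : ((k : H) : Perm α) z = z := ((k : H) : Perm α).injective h1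
      exact hv (by show ((k : H) : Perm α) z ∈ (Ω : Set α); rw [h2]; exact hzΩ)
    · intro hv
      rcases eq_or_ne v z with rfl | hvz
      · exact MulAction.mem_orbit_self _
      obtain ⟨h, hh, hhz, hhv⟩ := h2 z hzΩ _ hnzΩ v hv hz hvz
      refine ⟨⟨⟨h, hh⟩ * n * ⟨h, hh⟩⁻¹, hNn.conj_mem n hn _⟩, ?_⟩
      show h ((n : Perm α) (h⁻¹ z)) = v
      rw [show h⁻¹ z = z by rw [Equiv.Perm.inv_eq_iff_eq, hhz], hhv]
  have := MulAction.index_stabilizer N z
  rw [horb, Set.ncard_coe_finset] at this
  exact this ▸ Subgroup.index_dvd_card _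

/-- Orbit-stabiliser inside a permutation group. -/
theorem card_stab_mul (K : Subgroup (Perm α)) (a : α) (Ω : Finset α)
    (horb : MulAction.orbit K a = (Ω : Set α)) :
    Ω.card * Nat.card ↥(K ⊓ stabilizer (Perm α) a) = Nat.card K := by
  have h1 := MulAction.index_stabilizer K a
  rw [horb, Set.ncard_coe_finset] at h1
  rw [← h1, ← (stabilizer K a).card_mul_index, mul_comm]
  congr 1
  refine Nat.card_congr ⟨fun k => ⟨⟨k.1, k.2.1⟩, k.2.2⟩, fun k => ⟨k.1.1, k.1.2, k.2⟩, fun _ => rfl,
    fun _ => rfl⟩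

theorem card_support_of_prime {σ : Perm α} {p : ℕ} (hp : p.Prime) (hσ : orderOf σ = p) :
    ∃ k, 1 ≤ k ∧ σ.support.card = k * p := by
  obtain ⟨n, hn⟩ := cycleType_prime_order (σ := σ) (by rw [hσ]; exact hp)
  exact ⟨n + 1, by omega, by rw [← σ.sum_cycleType, hn, hσ, Multiset.sum_replicate, smul_eq_mul]⟩

theorem isPreprimitive_of_cycle (G : Subgroup (Perm α)) [IsPretransitive G α] {q : ℕ}
    (hq : q.Prime) {y : Perm α} (hy : y ∈ G) (hyc : y.IsCycle) (hys : y.support.card = q)
    (hlt : Fintype.card α < 2 * q) : IsPreprimitive G α := by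
  classical
  refine ⟨fun {B} hB => ?_⟩
  rcases B.eq_empty_or_nonempty with h | hne
  · exact Or.inl (h ▸ Set.subsingleton_empty)
  rw [IsTrivialBlock, or_iff_not_imp_left]
  intro hns
  have hb2 : 2 ≤ B.ncard := (Set.one_lt_ncard).2 (Set.not_subsingleton_iff.1 hns)
  have hmul := hB.ncard_block_mul_ncard_orbit_eq hne
  rw [Nat.card_eq_fintype_card] at hmul
  have horb : (MulAction.orbit G B).ncard < q := by nlinarith
  obtain ⟨z, hz⟩ := hyc.nonempty_support
  obtain ⟨b, hb⟩ := hne
  obtain ⟨g, hg⟩ := MulAction.exists_smul_eq G b z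
  set C := g • B with hC
  have hzC : z ∈ C := ⟨b, hb, hg⟩
  let Y : G := ⟨y, hy⟩
  -- `y` fixes the translate through `z`
  have hYC : Y • C = C := by
    have hord : orderOf Y = q := by rw [← Subgroup.orderOf_coe, hyc.orderOf, hys]
    haveI := Fact.mk hq
    have hsub : MulAction.orbit (Subgroup.zpowers Y) C ⊆ MulAction.orbit G B := by
      rintro _ ⟨k, rfl⟩
      exact ⟨(k : G) * g, mul_smul _ _ _⟩
    have h1 := (Set.ncard_le_ncard hsub (Set.toFinite _)).trans_lt horb
    have h2 : (MulAction.orbit (Subgroup.zpowers Y) C).ncard ∣ q := by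
      rw [← MulAction.index_stabilizer]
      refine (Subgroup.index_dvd_card _).trans ?_
      rw [Nat.card_zpowers, hord]
    rcases (Nat.dvd_prime hq).1 h2 with h | h
    · obtain ⟨w, hw⟩ := Set.ncard_eq_one.1 h
      have e1 : C ∈ MulAction.orbit (Subgroup.zpowers Y) C := MulAction.mem_orbit_self _
      have e2 : Y • C ∈ MulAction.orbit (Subgroup.zpowers Y) C := ⟨⟨Y, Subgroup.mem_zpowers Y⟩, rfl⟩
      rw [hw, Set.mem_singleton_iff] at e1 e2
      exact e2.trans e1.symm
    · omega
  have hsupp : ∀ w ∈ y.support, w ∈ C := by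
    intro w hw
    obtain ⟨i, rfl⟩ := hyc.exists_zpow_eq (mem_support.1 hz) (mem_support.1 hw)
    have h3 : Y ^ i • C = C := zpow_mem (show Y ∈ stabilizer G C from hYC) i
    rw [← h3]
    exact ⟨z, hzC, rfl⟩
  have hCcard : q ≤ C.ncard := by
    rw [← hys, ← Set.ncard_coe_finset]
    exact Set.ncard_le_ncard hsupp (Set.toFinite _)
  have hCB : C.ncard = B.ncard := by
    rw [hC]
    exact Set.ncard_image_of_injective B (MulAction.injective g)
  exact hB.eq_univ_of_card_lt (by rw [Nat.card_eq_fintype_card]; omega)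

/-- `p + 2` points and a `p`-cycle: threefold transitivity. -/
theorem three_transitive (G : Subgroup (Perm α)) (hG : IsPreprimitive G α) {p : ℕ} (hp : p.Prime)
    {g : Perm α} (hg : g ∈ G) (hgc : g.IsCycle) (hgp : g.support.card = p)
    (hn : Fintype.card α = p + 2) : IsMultiplyPretransitive G α 3 := by
  set s : Set α := ((g.supportᶜ : Finset α) : Set α) with hs
  have hsk : s.ncard = 1 + 1 := by
    rw [hs, Set.ncard_coe_finset, Finset.card_compl, hgp]; omega
  have hgF : (⟨g, hg⟩ : G) ∈ fixingSubgroup G s := by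
    rw [mem_fixingSubgroup_iff]
    intro y hy
    simp only [hs, Finset.coe_compl, Set.mem_compl_iff, Finset.mem_coe] at hy
    exact Equiv.Perm.notMem_support.1 hy
  have hmem : ∀ y : α, y ∈ s ↔ g y = y := fun y => by simp [hs, Equiv.Perm.mem_support]
  have hcardS : Nat.card (SubMulAction.ofFixingSubgroup G s) = p := by
    have h : Nat.card (SubMulAction.ofFixingSubgroup G s) = Nat.card ↥(sᶜ) := rfl
    rw [h, Nat.card_coe_set_eq, hs, ← Finset.coe_compl, compl_compl, Set.ncard_coe_finset, hgp]
  have hprimS : IsPreprimitive (fixingSubgroup G s) (SubMulAction.ofFixingSubgroup G s) := by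
    haveI : IsPretransitive (fixingSubgroup G s) (SubMulAction.ofFixingSubgroup G s) := by
      refine ⟨fun u v => ?_⟩
      have hu : g u ≠ u := fun h => u.2 ((hmem u).2 h)
      have hv : g v ≠ v := fun h => v.2 ((hmem v).2 h)
      obtain ⟨i, hi⟩ := hgc.exists_zpow_eq hu hv
      exact ⟨⟨⟨g, hg⟩ ^ i, Subgroup.zpow_mem _ hgF i⟩, Subtype.ext hi⟩
    exact IsPreprimitive.of_prime_card (hcardS ▸ hp)
  have := hG.isMultiplyPreprimitive (s := s) (n := 1) hsk
    (by rw [Nat.card_eq_fintype_card]; have := hp.two_le; omega) hprimS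
  exact this.isMultiplyPretransitive

/-- A subgroup of the alternating group of degree at least 5 and index at most 4 is everything. -/
theorem alternatingGroup_le_of_index (G : Subgroup (Perm α)) (hG : G ≤ alternatingGroup α)
    (h5 : 5 ≤ Fintype.card α) {k : ℕ} (hk : k * Nat.card G = Nat.card (alternatingGroup α))
    (hfac : k.factorial < Nat.card (alternatingGroup α)) : alternatingGroup α ≤ G := by
  classical
  haveI := alternatingGroup.isSimpleGroup (α := α) (by rwa [Nat.card_eq_fintype_card])
  set A := alternatingGroup α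
  let G' : Subgroup A := G.subgroupOf A
  have hG' : Nat.card G' = Nat.card G := Nat.card_congr (Subgroup.subgroupOfEquivOfLe hG).toEquiv
  have hidx : G'.index = k := by
    have h1 := G'.card_mul_index
    rw [hG', ← hk, mul_comm k] at h1
    exact Nat.eq_of_mul_eq_mul_left Nat.card_pos h1
  let f := MulAction.toPermHom A (A ⧸ G')
  have hker : f.ker = G'.normalCore := (Subgroup.normalCore_eq_ker G').symm
  rcases (G'.normalCore_normal).eq_bot_or_eq_top with h | h
  · exfalso
    have hinj : Function.Injective f := (MonoidHom.ker_eq_bot_iff f).1 (hker.trans h)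
    have h1 := Nat.card_le_card_of_injective f hinj
    rw [Nat.card_perm, ← Subgroup.index, hidx] at h1
    omega
  · intro z hz
    have : (⟨z, hz⟩ : A) ∈ G' := G'.normalCore_le (h ▸ Subgroup.mem_top _)
    exact this

theorem card_alternating (n : ℕ) (hn : Fintype.card α = n) (h2 : 2 ≤ n) :
    2 * Nat.card (alternatingGroup α) = n.factorial := by
  haveI : Nontrivial α := Fintype.one_lt_card_iff_nontrivial.1 (by omega)
  rw [two_mul_nat_card_alternatingGroup, Nat.card_perm, Nat.card_eq_fintype_card, hn]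

/-- Degree 6. -/
theorem degree_six (G : Subgroup (Perm α)) (hA : G ≤ alternatingGroup α) [IsPretransitive G α]
    (hn : Fintype.card α = 6) {y : Perm α} (hy : y ∈ G) (hyc : y.IsCycle)
    (hys : y.support.card = 5) :
    alternatingGroup α ≤ G ∨ Nonempty (G ≃* alternatingGroup (Fin 5)) := by
  classical
  obtain ⟨o, ho⟩ : ∃ o, y o = o := by
    by_contra hc
    push Not at hc
    have : y.support = Finset.univ := Finset.eq_univ_iff_forall.2 fun z => mem_support.2 (hc z)
    rw [this, Finset.card_univ] at hys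
    omega
  have hfix : ∀ z, y z = z → z = o := by
    intro z hz
    have h1 : (y.supportᶜ).card ≤ 1 := by rw [Finset.card_compl]; omega
    exact Finset.card_le_one.1 h1 z (by simp [hz]) o (by simp [ho])
  have h2t : IsMultiplyPretransitive G α 2 := Perm.isTwoPretransitive_of_stabilizer o fun b c hb hc => by
    obtain ⟨i, hi⟩ := hyc.exists_zpow_eq (x := b) (y := c) (fun h => hb (hfix b h)) (fun h => hc (hfix c h))
    exact ⟨⟨y ^ i, zpow_mem hy i⟩, Equiv.Perm.zpow_apply_eq_self_of_apply_eq_self ho i, hi⟩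
  have h2 : ∀ z ∈ (Finset.univ : Finset α), ∀ u ∈ (Finset.univ : Finset α),
      ∀ v ∈ (Finset.univ : Finset α), u ≠ z → v ≠ z → ∃ h ∈ G, h z = z ∧ h u = v := by
    intro z _ u _ v _ hu hv
    obtain ⟨⟨h, hh⟩, h1, h2⟩ := Perm.exists_smul_eq_two h2t hu.symm hv.symm
    exact ⟨h, hh, h1, h2⟩
  have h30 : 30 ∣ Nat.card G := by
    have := Perm.descFactorial_dvd_card h2t (by rw [Nat.card_eq_fintype_card]; omega)
    rw [Nat.card_eq_fintype_card, hn] at this
    exact this
  have hAc : Nat.card (alternatingGroup α) = 360 := by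
    have := card_alternating 6 hn (by omega)
    rw [show Nat.factorial 6 = 720 from rfl] at this
    omega
  obtain ⟨k, hk⟩ := Subgroup.card_dvd_of_le hA
  rw [hAc] at hk
  obtain ⟨j, hj⟩ := h30
  rcases (show k ≤ 4 ∨ k = 6 ∨ k = 12 by
    have hjk : j * k = 12 := by rw [hj] at hk; linarith
    have : k ≤ 12 := Nat.le_of_dvd (by norm_num) ⟨j, by linarith⟩
    interval_cases k <;> omega) with h | h | h
  · refine Or.inl (alternatingGroup_le_of_index G hA (by omega) (k := k) (by rw [hAc, hk]; ring) ?_)
    rw [hAc]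
    interval_cases k <;> norm_num [Nat.factorial]
  · have h60 : Nat.card G = 60 := by rw [h] at hk; omega
    right
    haveI : Nontrivial G := Finite.one_lt_card_iff_nontrivial.1 (by omega)
    haveI : IsSimpleGroup G := ⟨fun N hN => by
      by_contra hc
      push Not at hc
      haveI := hN
      have h6 := dvd_card_of_normal G N hc.1 Finset.univ (fun _ _ z hz => absurd (Finset.mem_univ z) hz) h2
      rw [Finset.card_univ, hn] at h6
      have hd : Nat.card N ∣ 60 := h60 ▸ N.card_subgroup_dvd_card
      have hne : Nat.card N ≠ 60 := fun e => hc.2 (N.eq_top_of_card_eq (e.trans h60.symm))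
      obtain ⟨M, hMc, hM1, hM6⟩ := small_characteristic (H := N) (by
        have := Nat.le_of_dvd (by norm_num) hd
        obtain ⟨t, ht⟩ := h6
        interval_cases Nat.card N <;> omega)
      haveI := hMc
      haveI : (M.map N.subtype).Normal := inferInstance
      refine hM6 ?_
      have := dvd_card_of_normal G (M.map N.subtype) (fun e => hM1
        ((Subgroup.map_eq_bot_iff_of_injective _ N.subtype_injective).1 e)) Finset.univ
        (fun _ _ z hz => absurd (Finset.mem_univ z) hz) h2
      rwa [Finset.card_univ, hn, Subgroup.card_map_of_injective N.subtype_injective] at this⟩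
    refine SmallSimple.iso_alternating_five (fun hc => ?_) h60
    haveI : (Subgroup.zpowers (⟨y, hy⟩ : G)).Normal := ⟨fun m hm g => by
      rwa [hc.1.1 g m, mul_inv_cancel_right]⟩
    have h6 := dvd_card_of_normal G (Subgroup.zpowers (⟨y, hy⟩ : G)) (fun e => hyc.ne_one
      (congrArg Subtype.val (Subgroup.zpowers_eq_bot.1 e))) Finset.univ
      (fun _ _ z hz => absurd (Finset.mem_univ z) hz) h2
    rw [Finset.card_univ, hn, Nat.card_zpowers, ← Subgroup.orderOf_coe, hyc.orderOf, hys] at h6
    norm_num at h6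
  · exfalso
    have h30' : Nat.card G = 30 := by rw [h] at hk; omega
    obtain ⟨M, hMc, hM1, hM6⟩ := small_characteristic (H := G) (by omega)
    haveI := hMc
    have h6 := dvd_card_of_normal G M hM1 Finset.univ (fun _ _ z hz => absurd (Finset.mem_univ z) hz) h2
    rw [Finset.card_univ, hn] at h6
    exact hM6 h6

/-- The stabiliser of a point in a threefold transitive group, as a doubly transitive group. -/
theorem stab_two (G : Subgroup (Perm α)) (h3 : IsMultiplyPretransitive G α 3) (a : α) :
    (∀ h ∈ G ⊓ stabilizer (Perm α) a, ∀ z, z ∉ Finset.univ.erase a → h z = z) ∧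
    (∀ z ∈ Finset.univ.erase a, ∀ u ∈ Finset.univ.erase a, ∀ v ∈ Finset.univ.erase a,
      u ≠ z → v ≠ z → ∃ h ∈ G ⊓ stabilizer (Perm α) a, h z = z ∧ h u = v) := by
  constructor
  · intro h hh z hz
    obtain rfl : z = a := by simpa using hz
    exact hh.2
  · intro z hz u hu v hv huz hvz
    simp only [Finset.mem_erase, Finset.mem_univ, and_true] at hz hu hv
    obtain ⟨⟨h, hh⟩, h1, h2, h3'⟩ := Perm.exists_smul_eq_three h3 (Ne.symm hz) (Ne.symm hu) huz.symm
      (Ne.symm hz) (Ne.symm hv) hvz.symm
    exact ⟨h, ⟨hh, h1⟩, h2, h3'⟩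

theorem orbit_univ (G : Subgroup (Perm α)) [IsPretransitive G α] (a : α) :
    MulAction.orbit G a = ((Finset.univ : Finset α) : Set α) := by
  rw [MulAction.orbit_eq_univ, Finset.coe_univ]

/-- Degree 7. -/
theorem degree_seven (G : Subgroup (Perm α)) (hA : G ≤ alternatingGroup α)
    (hG : IsPreprimitive G α) (hn : Fintype.card α = 7) {x : Perm α} (hx : x ∈ G) (hxc : x.IsCycle)
    (hxs : x.support.card = 5) : alternatingGroup α ≤ G := by
  classical
  haveI := hG
  have h3 := three_transitive G hG (by norm_num) hx hxc hxs (by omega)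
  have h210 : 210 ∣ Nat.card G := by
    have := Perm.descFactorial_dvd_card h3 (by rw [Nat.card_eq_fintype_card]; omega)
    rw [Nat.card_eq_fintype_card, hn] at this
    exact this
  have hAc : Nat.card (alternatingGroup α) = 2520 := by
    have := card_alternating 7 hn (by omega)
    rw [show Nat.factorial 7 = 5040 from rfl] at this
    omega
  obtain ⟨k, hk⟩ := Subgroup.card_dvd_of_le hA
  rw [hAc] at hk
  obtain ⟨j, hj⟩ := h210
  have hjk : j * k = 12 := by rw [hj] at hk; linarith
  rcases (show k ≤ 6 ∨ k = 12 by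
    have : k ≤ 12 := Nat.le_of_dvd (by norm_num) ⟨j, by linarith⟩
    interval_cases k <;> omega) with h | h
  · refine alternatingGroup_le_of_index G hA (by omega) (k := k) (by rw [hAc, hk]; ring) ?_
    rw [hAc]
    interval_cases k <;> norm_num [Nat.factorial]
  · exfalso
    have h210' : Nat.card G = 210 := by rw [h] at hk; omega
    obtain ⟨a⟩ : Nonempty α := Fintype.card_pos_iff.1 (by omega)
    have hcard := card_stab_mul G a Finset.univ (orbit_univ G a)
    rw [Finset.card_univ, hn, h210'] at hcard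
    obtain ⟨M, hMc, hM1, hM6⟩ :=
      small_characteristic (H := ↥(G ⊓ stabilizer (Perm α) a)) (by omega)
    haveI := hMc
    obtain ⟨hf, h2⟩ := stab_two G h3 a
    have h6 := dvd_card_of_normal _ M hM1 _ hf h2
    rw [Finset.card_erase_of_mem (Finset.mem_univ a), Finset.card_univ, hn] at h6
    exact hM6 h6

end Cfsg.Agent.TwoCycles
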