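import Cfsg.Agent.Lib.TwoCycles.Small
import Mathlib.FieldTheory.Finite.Basic
import Mathlib.GroupTheory.Subgroup.Center
import Mathlib.GroupTheory.PGroup

set_option autoImplicit false
set_option linter.style.haveILetI false

/-!
# Degree 13 with an 11-cycle
-/

namespace Cfsg.Agent.TwoCycles

open Equiv Equiv.Perm MulAction Pointwise

variable {α : Type*} [Fintype α] [DecidableEq α]

theorem zpow_apply_eq_iff_dvd {s : Perm α} {p : ℕ} (hp : p.Prime) (hs : s ^ p = 1) {z : α}
    (hz : s z ≠ z) (i : ℤ) : (s ^ i) z = z ↔ (p : ℤ) ∣ i := by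
  constructor
  · intro h
    by_contra hd
    have hco : IsCoprime (p : ℤ) i :=
      ((Nat.prime_iff_prime_int.1 hp).coprime_iff_not_dvd).2 hd
    obtain ⟨u, v, huv⟩ := hco
    refine hz ?_
    have h1 : s = (s ^ i) ^ v := by
      conv_lhs => rw [← zpow_one s, ← huv, zpow_add, mul_comm u, zpow_mul, zpow_natCast, hs, one_zpow, one_mul]
      rw [← zpow_mul, mul_comm]
    rw [h1]
    exact Equiv.Perm.zpow_apply_eq_self_of_apply_eq_self h v
  · rintro ⟨u, rfl⟩
    rw [zpow_mul, zpow_natCast, hs, one_zpow, Equiv.Perm.one_apply]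

/-- An element commuting with a product of two 5-cycles preserves each of the two orbits,
if it has odd order. -/
theorem sameCycle_of_commute {s w : Perm α} (hs : s ^ 5 = 1) (hsupp : s.support.card = 10)
    (hc : Commute w s) (hw : Odd (orderOf w)) {z : α} (hz : s z ≠ z) : SameCycle s z (w z) := by
  classical
  have hmem : ∀ u, s u ≠ u → s (w u) ≠ w u := fun u hu h => hu (w.injective (by
    rw [← mul_apply, hc.eq, mul_apply, h]))
  have hzz : ∀ u, s u ≠ u → Function.Injective fun i : Fin 5 => (s ^ (i.val : ℤ)) u := by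
    intro u hu i j h
    have h1 : (s ^ ((i.val : ℤ) - j.val)) u = u := by
      have h' := congrArg (⇑(s ^ (-(j.val : ℤ)))) h
      simp only [← mul_apply, ← zpow_add] at h'
      rwa [neg_add_cancel, zpow_zero, one_apply, neg_add_eq_sub] at h'
    have := (zpow_apply_eq_iff_dvd (by norm_num) hs hu _).1 h1
    exact Fin.ext (by omega)
  have hrel : SameCycle s z (w z) ∨ SameCycle s z (w (w z)) ∨ SameCycle s (w z) (w (w z)) := by
    by_contra hcon
    push Not at hcon
    let O : α → Finset α := fun u => Finset.univ.image fun i : Fin 5 => (s ^ (i.val : ℤ)) u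
    have hO : ∀ u, s u ≠ u → (O u).card = 5 := fun u hu => by
      rw [Finset.card_image_of_injective _ (hzz u hu), Finset.card_univ, Fintype.card_fin]
    have hsub : ∀ u, s u ≠ u → O u ⊆ s.support := by
      intro u hu v hv
      obtain ⟨i, -, rfl⟩ := Finset.mem_image.1 hv
      exact zpow_apply_mem_support.2 (mem_support.2 hu)
    have hd : ∀ u v, ¬ SameCycle s u v → Disjoint (O u) (O v) := by
      intro u v h
      rw [Finset.disjoint_left]
      intro t ht ht'
      obtain ⟨i, -, rfl⟩ := Finset.mem_image.1 ht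
      obtain ⟨j, -, hj⟩ := Finset.mem_image.1 ht'
      exact h (SameCycle.trans ⟨(i.val : ℤ), rfl⟩ (SameCycle.symm ⟨(j.val : ℤ), hj⟩))
    have h1 := hmem z hz
    have h2 := hmem _ h1
    have hle := Finset.card_le_card (Finset.union_subset (Finset.union_subset (hsub z hz) (hsub _ h1)) (hsub _ h2))
    rw [Finset.card_union_of_disjoint (Finset.disjoint_union_left.2 ⟨hd _ _ hcon.2.1, hd _ _ hcon.2.2⟩),
      Finset.card_union_of_disjoint (hd _ _ hcon.1), hO z hz, hO _ h1, hO _ h2, hsupp] at hle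
    omega
  have hmap : ∀ {u v : α}, SameCycle s u v → ∀ m : ℤ, SameCycle s ((w ^ m) u) ((w ^ m) v) := by
    rintro u v ⟨i, rfl⟩ m
    exact ⟨i, by rw [← mul_apply, ← mul_apply, ((hc.zpow_left m).zpow_right i).eq]⟩
  rcases hrel with h | h | h
  · exact h
  · obtain ⟨t, ht⟩ := hw
    have hiter : ∀ k : ℕ, SameCycle s z ((w ^ (2 * k)) z) := by
      intro k
      induction k with
      | zero => simpa using SameCycle.refl s z
      | succ k ih =>
        refine ih.trans ?_
        have := hmap h ((2 * k : ℕ) : ℤ)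
        rw [zpow_natCast] at this
        rwa [show 2 * (k + 1) = 2 * k + 2 by ring, pow_add, pow_two, mul_apply]
    have h2 := hiter (t + 1)
    rwa [show 2 * (t + 1) = orderOf w + 1 by omega, pow_add, pow_orderOf_eq_one, one_mul, pow_one] at h2
  · have := hmap h (-1)
    rw [zpow_neg_one] at this
    simpa using this

/-- A `3`-cycle on the fixed points normalising two 5-cycles centralises them. -/
theorem support_three {s w : Perm α} (hs : s ^ 5 = 1) (hsupp : s.support.card = 10)
    (hc : Commute w s) {k : ℕ} (hw : w ^ 3 ^ k = 1) : w.support ⊆ s.supportᶜ := by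
  intro z hzw
  rw [Finset.mem_compl]
  intro hz
  rw [mem_support] at hz hzw
  have hodd : Odd (orderOf w) :=
    Odd.of_dvd_nat (Odd.pow (by decide)) (orderOf_dvd_of_pow_eq_one hw)
  obtain ⟨i, hi⟩ := sameCycle_of_commute hs hsupp hc hodd hz
  have hiter : ∀ t : ℕ, (w ^ t) z = (s ^ (i * t)) z := by
    intro t
    induction t with
    | zero => simp
    | succ t ih =>
      rw [pow_succ', mul_apply, ih, ← mul_apply, (hc.zpow_right _).eq, mul_apply, ← hi, ← mul_apply,
        ← zpow_add]
      congr 2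
      push_cast
      ring
  have h1 := (zpow_apply_eq_iff_dvd (by norm_num) hs hz _).1 ((hiter (3 ^ k)).symm.trans (by rw [hw, one_apply]))
  have hi5 : (5 : ℤ) ∣ i := by
    rcases (Nat.prime_iff_prime_int.1 (by norm_num : Nat.Prime 5)).dvd_mul.1 h1 with h | h
    · exact h
    · exfalso
      have h' : 5 ∣ 3 ^ k := Int.natCast_dvd_natCast.1 h
      exact absurd ((by norm_num : Nat.Prime 5).dvd_of_dvd_pow h') (by norm_num)
  exact hzw (by rw [← hi]; exact (zpow_apply_eq_iff_dvd (by norm_num) hs hz _).2 hi5)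

theorem eq_one_of_pows {M : Type*} [Monoid M] {u : M} {k : ℕ} (h4 : u ^ 4 = 1) (h3 : u ^ 3 ^ k = 1) :
    u = 1 := by
  have h1 := orderOf_dvd_of_pow_eq_one h4
  have h2 := orderOf_dvd_of_pow_eq_one h3
  exact orderOf_eq_one_iff.1 (Nat.eq_one_of_dvd_coprimes ((by norm_num : Nat.Coprime 4 3).pow_right k) h1 h2)

/-- Conjugation by a power. -/
theorem conj_pow_pow {G : Type*} [Group G] {g x : G} {r : ℕ} (h : g * x * g⁻¹ = x ^ r) :
    ∀ t : ℕ, g ^ t * x * (g ^ t)⁻¹ = x ^ r ^ t := by
  intro t
  induction t with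
  | zero => simp
  | succ t ih =>
    calc g ^ (t + 1) * x * (g ^ (t + 1))⁻¹ = g * (g ^ t * x * (g ^ t)⁻¹) * g⁻¹ := by
          rw [pow_succ']; group
      _ = (g * x * g⁻¹) ^ r ^ t := by rw [ih, conj_pow]
      _ = x ^ r ^ (t + 1) := by rw [h, ← pow_mul, pow_succ']

/-- Degree 13. -/
theorem degree_thirteen (G : Subgroup (Perm α)) (hA : G ≤ alternatingGroup α)
    (hG : IsPreprimitive G α) (hn : Fintype.card α = 13) {x : Perm α} (hx : x ∈ G) (hxc : x.IsCycle)
    (hxs : x.support.card = 11) : alternatingGroup α ≤ G := by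
  classical
  haveI := hG
  haveI : Fact (Nat.Prime 5) := ⟨by norm_num⟩
  haveI : Fact (Nat.Prime 11) := ⟨by norm_num⟩
  haveI : Fact (Nat.Prime 3) := ⟨by norm_num⟩
  have h3 := three_transitive G hG (by norm_num) hx hxc hxs (by omega)
  have hx11 : orderOf x = 11 := hxc.orderOf.trans hxs
  obtain ⟨a, b, hab, habs⟩ := Finset.card_eq_two.1
    (show (x.supportᶜ).card = 2 by rw [Finset.card_compl, hxs, hn])
  have hxfix : ∀ z, x z = z ↔ z = a ∨ z = b := fun z => by
    have := Finset.ext_iff.1 habs z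
    simpa [mem_support] using this
  have hxa : x a = a := (hxfix a).2 (Or.inl rfl)
  have hxb : x b = b := (hxfix b).2 (Or.inr rfl)
  let H1 := G ⊓ stabilizer (Perm α) a
  let H2 := H1 ⊓ stabilizer (Perm α) b
  have hxH2 : x ∈ H2 := ⟨⟨hx, hxa⟩, hxb⟩
  have hc1 : 13 * Nat.card H1 = Nat.card G := by
    have := card_stab_mul G a Finset.univ (orbit_univ G a)
    rwa [Finset.card_univ, hn] at this
  have hc2 : 12 * Nat.card H2 = Nat.card H1 := by
    obtain ⟨hf, h2⟩ := stab_two G h3 a
    have horb : MulAction.orbit H1 b = ((Finset.univ.erase a : Finset α) : Set α) := by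
      ext v
      simp only [Finset.coe_erase, Finset.coe_univ, Set.mem_sdiff, Set.mem_univ, Set.mem_singleton_iff, true_and]
      constructor
      · rintro ⟨⟨h, hh⟩, rfl⟩ he
        exact hab ((h.injective (show h b = h a from he.trans hh.2.symm)).symm)
      · intro hva
        obtain ⟨t, hta, htb⟩ : ∃ t, t ≠ a ∧ t ≠ b ∧ t ≠ v := by
          have : (({a, b, v} : Finset α)ᶜ).Nonempty := by
            rw [← Finset.card_pos, Finset.card_compl]
            have := Finset.card_le_three (a := a) (b := b) (c := v)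
            omega
          obtain ⟨t, ht⟩ := this
          simp only [Finset.mem_compl, Finset.mem_insert, Finset.mem_singleton, not_or] at ht
          exact ⟨t, ht⟩
        obtain ⟨h, hh, -, hhb⟩ := h2 t (by simp [hta]) b (by simp [hab.symm]) v (by simp [hva])
          (Ne.symm htb.1) (Ne.symm htb.2)
        exact ⟨⟨h, hh⟩, hhb⟩
    have := card_stab_mul H1 b (Finset.univ.erase a) horb
    rwa [Finset.card_erase_of_mem (Finset.mem_univ a), Finset.card_univ, hn] at this
  by_cases h5 : 5 ∣ Nat.card H2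
  · obtain ⟨⟨s, hsH⟩, hs5⟩ := exists_prime_orderOf_dvd_card' (G := H2) 5 h5
    rw [Subgroup.orderOf_mk] at hs5
    obtain ⟨⟨hsG, hsa⟩, hsb⟩ := hsH
    have hsab : ∀ z ∈ s.support, z ∈ x.support := by
      intro z hz
      rw [mem_support] at hz ⊢
      intro h
      rcases (hxfix z).1 h with rfl | rfl
      · exact hz hsa
      · exact hz hsb
    obtain ⟨k, hk1, hk⟩ := card_support_of_prime (by norm_num : Nat.Prime 5) hs5
    have hle := Finset.card_le_card (show s.support ⊆ x.support from hsab)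
    rcases (show k = 1 ∨ k = 2 by omega) with rfl | rfl
    · exact Perm.alternatingGroup_le_of_prime_cycle G hG (by norm_num : Nat.Prime 5) (by omega)
        (isCycle_of_prime_order (by rw [hs5]; norm_num) (by omega)) (by omega) hsG
    obtain ⟨c, hc, hcs⟩ := Finset.exists_mem_notMem_of_card_lt_card (show s.support.card < x.support.card by omega)
    have hsc : s c = c := notMem_support.1 hcs
    have hca : c ≠ a := fun h => mem_support.1 hc (h ▸ hxa)
    have hcb : c ≠ b := fun h => mem_support.1 hc (h ▸ hxb)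
    have hfix3 : ∀ z, s z = z → z = a ∨ z = b ∨ z = c := by
      intro z hz
      by_contra hcon
      push Not at hcon
      have h4 : ({z, a, b, c} : Finset α) ⊆ s.supportᶜ := by
        intro u hu
        simp only [Finset.mem_insert, Finset.mem_singleton] at hu
        rw [Finset.mem_compl, notMem_support]
        rcases hu with rfl | rfl | rfl | rfl <;> assumption
      have := Finset.card_le_card h4
      rw [Finset.card_compl, hn, hk] at this
      simp [hcon.1, hcon.2.1, hcon.2.2, hab, hca.symm, hcb.symm] at this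
    let F := H2 ⊓ stabilizer (Perm α) c
    have hsF : s ∈ F := ⟨⟨⟨hsG, hsa⟩, hsb⟩, hsc⟩
    have hS : IsPGroup 5 (Subgroup.zpowers (⟨s, hsF⟩ : F)) := IsPGroup.of_card (n := 1)
      (by rw [Nat.card_zpowers, Subgroup.orderOf_mk, hs5, pow_one])
    obtain ⟨T, hT⟩ := hS.exists_le_sylow
    have hfixF : ∀ f ∈ F, f.support ⊆ s.support := by
      intro f hf z hz
      rw [mem_support] at hz ⊢
      intro h
      rcases hfix3 z h with rfl | rfl | rfl
      · exact hz hf.1.1.2
      · exact hz hf.1.2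
      · exact hz hf.2
    have hexp : ∀ t : F, t ∈ (T : Subgroup F) → (t : Perm α) ^ 5 = 1 := by
      intro t ht
      obtain ⟨j, hj⟩ := IsPGroup.iff_orderOf.1 T.isPGroup' ⟨t, ht⟩
      rw [Subgroup.orderOf_mk, ← Subgroup.orderOf_coe] at hj
      refine Equiv.Perm.pow_prime_eq_one_iff.2 fun m hm => ?_
      have h1 := hj ▸ Equiv.Perm.dvd_of_mem_cycleType hm
      obtain ⟨i, hi, rfl⟩ := (Nat.dvd_prime_pow (by norm_num : Nat.Prime 5)).1 h1
      have h2 := Equiv.Perm.le_card_support_of_mem_cycleType hm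
      have h3 := Finset.card_le_card (hfixF _ t.2)
      have h4 := Equiv.Perm.two_le_of_mem_cycleType hm
      rcases i with _ | _ | i
      · norm_num at h4
      · norm_num
      · have : 25 ≤ 5 ^ (i + 1 + 1) := (show 25 = 5 ^ 2 by norm_num) ▸ Nat.pow_le_pow_right (by norm_num) (by omega)
        omega
    by_cases hTS : (T : Subgroup F) = Subgroup.zpowers (⟨s, hsF⟩ : F)
    swap
    · -- a 5-cycle
      obtain ⟨t, htT, htn, htc⟩ : ∃ t ∈ (T : Subgroup F), t ∉ Subgroup.zpowers (⟨s, hsF⟩ : F) ∧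
          Commute t ⟨s, hsF⟩ := by
        by_contra hcon
        push Not at hcon
        have hsT : (⟨s, hsF⟩ : F) ∈ (T : Subgroup F) := hT (Subgroup.mem_zpowers _)
        obtain ⟨t, htT, htn⟩ := SetLike.exists_of_lt (lt_of_le_of_ne hT (Ne.symm hTS))
        haveI : Nontrivial (T : Subgroup F) := ⟨⟨⟨⟨s, hsF⟩, hsT⟩, 1, fun e => by
          have := congrArg (fun u : (T : Subgroup F) => ((u : F) : Perm α)) e
          simp only [OneMemClass.coe_one] at this
          rw [this, orderOf_one] at hs5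
          norm_num at hs5⟩⟩
        haveI := T.isPGroup'.center_nontrivial
        obtain ⟨z, hz1⟩ := exists_ne (1 : Subgroup.center (T : Subgroup F))
        have hzc := fun u : (T : Subgroup F) => (Subgroup.mem_center_iff.1 z.2 u)
        by_cases hzS : ((z : (T : Subgroup F)) : F) ∈ Subgroup.zpowers (⟨s, hsF⟩ : F)
        · have hz5 : Subgroup.zpowers ((z : (T : Subgroup F)) : F) = Subgroup.zpowers (⟨s, hsF⟩ : F) := by
            refine Subgroup.eq_of_le_of_card_ge (Subgroup.zpowers_le.2 hzS) ?_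
            rw [Nat.card_zpowers, Nat.card_zpowers, Subgroup.orderOf_mk, hs5]
            have h1 : (((z : (T : Subgroup F)) : F)) ^ 5 = 1 := Subtype.ext (hexp _ (z : (T : Subgroup F)).2)
            rw [orderOf_eq_prime h1 fun e => hz1 (Subtype.ext (Subtype.ext e))]
          have hcomm : Commute t ((z : (T : Subgroup F)) : F) := congrArg Subtype.val (hzc ⟨t, htT⟩)
          obtain ⟨i, hi⟩ := Subgroup.mem_zpowers_iff.1 (hz5 ▸ Subgroup.mem_zpowers (⟨s, hsF⟩ : F))
          exact hcon t htT htn (hi ▸ hcomm.zpow_right i)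
        · exact hcon _ (z : (T : Subgroup F)).2 hzS (congrArg Subtype.val (hzc ⟨_, hsT⟩)).symm
      have htc' : Commute (t : Perm α) s := congrArg Subtype.val htc
      have ht5 := hexp t htT
      have hs5' : s ^ 5 = 1 := hs5 ▸ pow_orderOf_eq_one s
      obtain ⟨z, hz⟩ : s.support.Nonempty := by rw [← Finset.card_pos]; omega
      rw [mem_support] at hz
      obtain ⟨i, hi⟩ := sameCycle_of_commute hs5' (by omega) htc'
        (Odd.of_dvd_nat (by decide : Odd 5) (orderOf_dvd_of_pow_eq_one ht5)) hz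
      let w : Perm α := (t : Perm α) * (s ^ i)⁻¹
      have hwc : Commute w s := htc'.mul_left ((Commute.refl s).zpow_left i).inv_left
      have hw5 : w ^ 5 = 1 := by
        rw [(htc'.zpow_right i).inv_right.mul_pow, ht5, inv_pow, ← zpow_natCast (s ^ i), ← zpow_mul,
          mul_comm i, zpow_mul, zpow_natCast, hs5', one_zpow, inv_one, mul_one]
      have hw1 : w ≠ 1 := fun e => htn (by
        rw [Subgroup.mem_zpowers_iff]
        exact ⟨i, Subtype.ext (by push_cast; exact (mul_inv_eq_one.1 e).symm)⟩)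
      have hwz : w ((s ^ i) z) = (s ^ i) z := by
        show (t : Perm α) ((s ^ i)⁻¹ ((s ^ i) z)) = _
        rw [← mul_apply _ (s ^ i), inv_mul_cancel, one_apply, hi]
      have hwfix : ∀ j : ℤ, w ((s ^ j) z) = (s ^ j) z := by
        intro j
        have e : (s ^ j) z = (s ^ (j - i)) ((s ^ i) z) := by rw [← mul_apply, ← zpow_add, sub_add_cancel]
        rw [e, ← mul_apply, (hwc.zpow_right _).eq, mul_apply, hwz]
      have hwF : w ∈ F := F.mul_mem t.2 (F.inv_mem (F.zpow_mem hsF i))
      have hord : orderOf w = 5 := orderOf_eq_prime hw5 hw1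
      obtain ⟨l, hl1, hl⟩ := card_support_of_prime (by norm_num : Nat.Prime 5) hord
      have hw9 : w.support.card ≤ 9 := by
        have hsub : w.support ⊆ s.support.erase z := fun u hu => Finset.mem_erase.2
          ⟨fun h => mem_support.1 hu (by have := hwfix 0; rw [h]; simpa using this), hfixF w hwF hu⟩
        refine (Finset.card_le_card hsub).trans ?_
        rw [Finset.card_erase_of_mem (mem_support.2 hz), hk]
      exact Perm.alternatingGroup_le_of_prime_cycle G hG (by norm_num : Nat.Prime 5) (by omega)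
        (isCycle_of_prime_order (by rw [hord]; norm_num) (by omega)) (by omega) hwF.1.1.1
    -- the Sylow subgroup is `⟨s⟩`: a 3-cycle
    obtain ⟨⟨g₀, hg₀⟩, ga, gb, gc⟩ := Perm.exists_smul_eq_three h3 hab hca.symm hcb.symm hcb.symm hab.symm hca
    change g₀ a = b at ga
    change g₀ b = c at gb
    change g₀ c = a at gc
    have hconjF : g₀ * s * g₀⁻¹ ∈ F := by
      have ia : g₀⁻¹ a = c := by rw [Equiv.Perm.inv_eq_iff_eq, gc]
      have ib : g₀⁻¹ b = a := by rw [Equiv.Perm.inv_eq_iff_eq, ga]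
      have ic : g₀⁻¹ c = b := by rw [Equiv.Perm.inv_eq_iff_eq, gb]
      refine ⟨⟨⟨G.mul_mem (G.mul_mem hg₀ hsG) (G.inv_mem hg₀), ?_⟩, ?_⟩, ?_⟩
      · show g₀ (s (g₀⁻¹ a)) = a; rw [ia, hsc, gc]
      · show g₀ (s (g₀⁻¹ b)) = b; rw [ib, show s a = a from hsa, ga]
      · show g₀ (s (g₀⁻¹ c)) = c; rw [ic, show s b = b from hsb, gb]
    have hS' : IsPGroup 5 (Subgroup.zpowers (⟨_, hconjF⟩ : F)) := IsPGroup.of_card (n := 1)
      (by rw [Nat.card_zpowers, Subgroup.orderOf_mk, orderOf_injective (MulAut.conj g₀).toMonoidHom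
        (MulAut.conj g₀).injective s |> (fun h => (show orderOf (g₀ * s * g₀⁻¹) = orderOf s from h)), hs5, pow_one])
    obtain ⟨U, hU⟩ := hS'.exists_le_sylow
    obtain ⟨f, hf⟩ := MulAction.exists_smul_eq F U T
    have hmem : f * ⟨_, hconjF⟩ * f⁻¹ ∈ (T : Subgroup F) := by
      have h1 : MulAut.conj f • (⟨_, hconjF⟩ : F) ∈ MulAut.conj f • (U : Subgroup F) :=
        Subgroup.smul_mem_pointwise_smul _ _ _ (hU (Subgroup.mem_zpowers _))
      have h2 : ((f • U : Sylow 5 F) : Subgroup F) = MulAut.conj f • (U : Subgroup F) := rfl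
      rw [← h2, hf] at h1
      exact h1
    rw [hTS] at hmem
    obtain ⟨r, hr⟩ := mem_powers_iff_mem_zpowers.2 hmem
    have hr' : s ^ r = ((f : Perm α) * g₀) * s * ((f : Perm α) * g₀)⁻¹ := by
      have := congrArg Subtype.val hr
      push_cast at this
      rw [this]; group
    set g := (f : Perm α) * g₀
    have hgG : g ∈ G := G.mul_mem f.2.1.1.1 hg₀
    have hga : g a = b := by show (f : Perm α) (g₀ a) = b; rw [ga]; exact f.2.1.2
    have hgb : g b = c := by show (f : Perm α) (g₀ b) = c; rw [gb]; exact f.2.2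
    have hgc : g c = a := by show (f : Perm α) (g₀ c) = a; rw [gc]; exact f.2.1.1.2
    obtain ⟨k', e, he, hge⟩ :=
      Nat.exists_eq_pow_mul_and_not_dvd (orderOf_pos g).ne' 3 (by norm_num : (3 : ℕ) ≠ 1)
    set w := g ^ e
    have hw3 : w ^ 3 ^ k' = 1 := by rw [← pow_mul, mul_comm, ← hge, pow_orderOf_eq_one]
    have hcube : (g ^ 3) a = a := by simp [pow_succ, mul_apply, hga, hgb, hgc]
    have hwa : w a ≠ a := by
      show (g ^ e) a ≠ a
      rw [← Nat.div_add_mod e 3, add_comm, pow_add, mul_apply, pow_mul,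
        Equiv.Perm.pow_apply_eq_self_of_apply_eq_self hcube]
      rcases (show e % 3 = 1 ∨ e % 3 = 2 by omega) with h | h <;> rw [h]
      · rw [pow_one, hga]; exact hab.symm
      · rw [pow_two, mul_apply, hga, hgb]; exact hca
    have hwconj := conj_pow_pow hr'.symm e
    have hs5' : s ^ 5 = 1 := hs5 ▸ pow_orderOf_eq_one s
    set r' := r ^ e
    have hu : ((r' : ℕ) : ZMod 5) = 1 := by
      have h2 := conj_pow_pow hwconj (3 ^ k')
      rw [hw3, one_mul, inv_one, mul_one] at h2
      have h3 : ((r' : ℕ) : ZMod 5) ^ 3 ^ k' = 1 := by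
        rw [← Nat.cast_pow, ← Nat.cast_one, ZMod.natCast_eq_natCast_iff]
        have := pow_eq_pow_iff_modEq (x := s) (n := r' ^ 3 ^ k') (m := 1)
        rw [hs5, pow_one] at this
        exact this.1 h2.symm
      have hne : ((r' : ℕ) : ZMod 5) ≠ 0 := fun h0 => by
        rw [h0, zero_pow (by positivity)] at h3
        exact zero_ne_one h3
      exact eq_one_of_pows (k := k') (ZMod.pow_card_sub_one_eq_one hne) h3
    have hcomm : Commute w s := by
      have h1 : s ^ r' = s := by
        conv_rhs => rw [← pow_one s]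
        rw [pow_eq_pow_iff_modEq, hs5, ← ZMod.natCast_eq_natCast_iff, hu, Nat.cast_one]
      show w * s = s * w
      rw [← mul_inv_eq_iff_eq_mul, hwconj, h1]
    have hsupw := support_three hs5' (by omega) hcomm hw3
    refine Perm.alternatingGroup_le_of_support_le_three G hG (G.pow_mem hgG e) (fun h => hwa (by
      rw [show w = 1 from h, one_apply])) ((Finset.card_le_card hsupw).trans ?_)
    rw [Finset.card_compl, hn, hk]
  -- otherwise the two-point stabiliser is `⟨x⟩`
  exfalso
  have hsub : ∀ h ∈ H2, h.support ⊆ x.support := by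
    intro h hh z hz
    rw [mem_support] at hz ⊢
    intro hxz
    rcases (hxfix z).1 hxz with rfl | rfl
    · exact hz hh.1.2
    · exact hz hh.2
  have hcent : ∀ c ∈ H2, Commute c x → c ∈ Subgroup.zpowers x := by
    intro c hc hcx
    obtain ⟨z, hz⟩ := hxc.nonempty_support
    rw [mem_support] at hz
    have hcz : x (c z) ≠ c z := fun h => hz (c.injective (by rw [← mul_apply, hcx.eq, mul_apply, h]))
    obtain ⟨i, hi⟩ := hxc.exists_zpow_eq hz hcz
    refine ⟨i, Equiv.ext fun u => ?_⟩
    show (x ^ i) u = c u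
    by_cases hu : x u = u
    · rw [Equiv.Perm.zpow_apply_eq_self_of_apply_eq_self hu]
      exact (notMem_support.1 fun h => mem_support.1 (hsub c hc h) hu).symm
    · obtain ⟨j, rfl⟩ := hxc.exists_zpow_eq hz hu
      rw [← mul_apply c, (hcx.zpow_right j).eq, mul_apply, ← hi, ← mul_apply, ← mul_apply, ← zpow_add,
        ← zpow_add, add_comm]
  let P' : Subgroup H2 := (Subgroup.zpowers x).subgroupOf H2
  have hP' : Nat.card P' = 11 := by
    rw [Nat.card_congr (Subgroup.subgroupOfEquivOfLe (Subgroup.zpowers_le.2 hxH2)).toEquiv, Nat.card_zpowers, hx11]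
  have hdiv : ¬ 11 ^ 2 ∣ Nat.card H2 := by
    intro h
    have h1 : Nat.card G ∣ Nat.factorial 13 := by
      have := Subgroup.card_subgroup_dvd_card G
      rwa [Nat.card_perm, Nat.card_eq_fintype_card (α := α), hn] at this
    rw [← hc1, ← hc2] at h1
    have h2 := ((h.mul_left 12).mul_left 13).trans h1
    norm_num [Nat.factorial] at h2
  let P : Sylow 11 H2 := Sylow.ofCard P' (by
    have h1 : 1 ≤ (Nat.card H2).factorization 11 := (by norm_num : Nat.Prime 11).factorization_pos_of_dvd
      Nat.card_pos.ne' (hP' ▸ P'.card_subgroup_dvd_card)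
    have h2 : ¬ 2 ≤ (Nat.card H2).factorization 11 := fun h =>
      hdiv (((by norm_num : Nat.Prime 11).pow_dvd_iff_le_factorization Nat.card_pos.ne').2 h)
    rw [hP', show (Nat.card H2).factorization 11 = 1 by omega, pow_one])
  have hNP : ∀ h ∈ H2, ∀ r : ℕ, h * x * h⁻¹ = x ^ r → h ∈ Subgroup.zpowers x := by
    intro h hh r hr
    have hr0 : ((r : ℕ) : ZMod 11) ≠ 0 := fun h0 => by
      have h11 : 11 ∣ r := (ZMod.natCast_eq_zero_iff _ _).1 h0
      rw [orderOf_dvd_iff_pow_eq_one.1 (hx11 ▸ h11), conj_eq_one_iff] at hr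
      exact hxc.ne_one hr
    have hsq : (((r ^ 5 : ℕ) : ZMod 11) - 1) * (((r ^ 5 : ℕ) : ZMod 11) + 1) = 0 := by
      have h10 : ((r : ℕ) : ZMod 11) ^ 10 = 1 := ZMod.pow_card_sub_one_eq_one hr0
      push_cast
      linear_combination h10
    have hu := conj_pow_pow hr 5
    have hh5 : h ^ 5 ∈ H2 := H2.pow_mem hh 5
    have hmem : h ^ 5 ∈ Subgroup.zpowers x := by
      rcases mul_eq_zero.1 hsq with e | e
      · refine hcent _ hh5 ?_
        have h1 : x ^ r ^ 5 = x := by
          conv_rhs => rw [← pow_one x]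
          rw [pow_eq_pow_iff_modEq, hx11, ← ZMod.natCast_eq_natCast_iff, sub_eq_zero.1 e, Nat.cast_one]
        show h ^ 5 * x = x * h ^ 5
        rw [← mul_inv_eq_iff_eq_mul, hu, h1]
      · exfalso
        set u := h ^ 5
        have h1 : x ^ r ^ 5 = x⁻¹ := by
          refine eq_inv_of_mul_eq_one_left ?_
          rw [← pow_succ, ← orderOf_dvd_iff_pow_eq_one, hx11, ← ZMod.natCast_eq_zero_iff, Nat.cast_succ]
          exact e
        rw [h1] at hu
        have h2 : Commute (u ^ 2) x := by
          show u ^ 2 * x = x * u ^ 2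
          calc u ^ 2 * x = u * (u * x * u⁻¹) * u⁻¹ * u ^ 2 := by rw [pow_two]; group
            _ = u * x⁻¹ * u⁻¹ * u ^ 2 := by rw [hu]
            _ = (u * x * u⁻¹)⁻¹ * u ^ 2 := by group
            _ = x * u ^ 2 := by rw [hu, inv_inv]
        have h3' : (u ^ 2) ^ 11 = 1 := by
          have := hcent _ (H2.pow_mem hh5 2) h2
          obtain ⟨i, hi⟩ := this
          rw [← show x ^ i = u ^ 2 from hi, ← zpow_natCast (x ^ i), ← zpow_mul, mul_comm, zpow_mul, zpow_natCast,
            ← hx11, pow_orderOf_eq_one, one_zpow]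
        set v := u ^ 11
        have hv2 : v ^ 2 = 1 := by rw [← pow_mul, mul_comm, pow_mul, h3']
        have hvx : v * x * v⁻¹ = x⁻¹ := by
          have e1 : v = u * (u ^ 2) ^ 5 := by rw [← pow_mul, ← pow_succ']
          rw [e1]
          calc u * (u ^ 2) ^ 5 * x * (u * (u ^ 2) ^ 5)⁻¹
              = u * ((u ^ 2) ^ 5 * x) * ((u ^ 2) ^ 5)⁻¹ * u⁻¹ := by group
            _ = x⁻¹ := by rw [(h2.pow_left 5).eq]; rw [← hu]; group
        have hvH : v ∈ H2 := H2.pow_mem hh5 11
        have hvne : v ≠ 1 := fun e' => by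
          rw [e', one_mul, inv_one, mul_one] at hvx
          have := orderOf_dvd_of_pow_eq_one (show x ^ 2 = 1 by
            rw [pow_two, ← mul_inv_cancel x]; exact congrArg (x * ·) hvx)
          rw [hx11] at this
          norm_num at this
        have hzp : ∀ i : ℤ, v * x ^ i * v⁻¹ = x ^ (-i) := fun i => by
          rw [← conj_zpow, hvx, inv_zpow, zpow_neg]
        have htwo := two_dvd_card_support hv2
        have hsv := Finset.card_le_card (hsub v hvH)
        have hone : (x.support \ v.support).card ≤ 1 := by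
          refine Finset.card_le_one.2 fun z hz w hw => ?_
          simp only [Finset.mem_sdiff, mem_support, not_not] at hz hw
          obtain ⟨i, rfl⟩ := hxc.exists_zpow_eq hz.1 hw.1
          have h4 : (v * x ^ i * v⁻¹) z = (x ^ i) z := by
            show v ((x ^ i) (v⁻¹ z)) = (x ^ i) z
            rw [show v⁻¹ z = z by rw [Equiv.Perm.inv_eq_iff_eq, hz.2], hw.2]
          rw [hzp] at h4
          have h5' : (x ^ (2 * i)) z = z := by
            have := congrArg (⇑(x ^ i)) h4
            rw [← mul_apply, ← zpow_add, add_neg_cancel, zpow_zero, one_apply, ← mul_apply, ← zpow_add] at this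
            rw [two_mul]; exact this.symm
          have hd := (zpow_apply_eq_iff_dvd (by norm_num : Nat.Prime 11) (hx11 ▸ pow_orderOf_eq_one x) hz.1 _).1 h5'
          have hdi : (11 : ℤ) ∣ i := by omega
          exact ((zpow_apply_eq_iff_dvd (by norm_num : Nat.Prime 11) (hx11 ▸ pow_orderOf_eq_one x) hz.1 _).2 hdi).symm
        rw [Finset.card_sdiff_of_subset (hsub v hvH), hxs] at hone
        have hsign := hA hvH.1.1
        rw [mem_alternatingGroup, sign_of_pow_two_eq_one hv2, card_fixedPoints, sum_cycleType,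
          show (Fintype.card α - (Fintype.card α - v.support.card)) / 2 = 5 by omega] at hsign
        exact absurd hsign (by decide)
    have hco : (5 : ℕ).Coprime (orderOf h) := (Nat.Prime.coprime_iff_not_dvd (by norm_num)).2 fun hd => by
      have := orderOf_dvd_natCard (⟨h, hh⟩ : H2)
      rw [Subgroup.orderOf_mk] at this
      exact h5 (hd.trans this)
    obtain ⟨m, hm⟩ := exists_pow_eq_self_of_coprime hco
    rw [← hm]
    exact pow_mem hmem m
  have hN : Subgroup.normalizer ((P : Subgroup H2) : Set H2) = P := by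
    refine le_antisymm (fun h hh => ?_) Subgroup.le_normalizer
    have hxP : (⟨x, hxH2⟩ : H2) ∈ P' := Subgroup.mem_subgroupOf.2 (Subgroup.mem_zpowers x)
    have h1 : h * ⟨x, hxH2⟩ * h⁻¹ ∈ P' := (Subgroup.mem_normalizer_iff.1 hh _).1 hxP
    obtain ⟨r, hr⟩ := mem_powers_iff_mem_zpowers.2 (Subgroup.mem_subgroupOf.1 h1)
    exact Subgroup.mem_subgroupOf.2 (hNP h h.2 r hr.symm)
  haveI : IsMulCommutative (P : Subgroup H2) := by
    haveI : IsCyclic (P : Subgroup H2) := isCyclic_of_prime_card (p := 11) hP'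
    exact ⟨⟨fun u v => (IsCyclic.commGroup (α := (P : Subgroup H2))).mul_comm u v⟩⟩
  have hburn : Subgroup.normalizer ((P : Subgroup H2) : Set H2) ≤ Subgroup.centralizer ((P : Subgroup H2) : Set H2) := by
    rw [hN]
    intro u hu
    exact Subgroup.mem_centralizer_iff.2 fun v hv =>
      congrArg Subtype.val (mul_comm' (⟨v, hv⟩ : (P : Subgroup H2)) ⟨u, hu⟩)
  have hcompl := MonoidHom.ker_transferSylow_isComplement' P hburn
  set K := (MonoidHom.transferSylow P hburn).ker
  have hKn : K.Normal := MonoidHom.normal_ker _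
  have hKcard : Nat.card K * 11 = Nat.card H2 := hP' ▸ hcompl.card_mul_card
  have hK11 : ¬ 11 ∣ Nat.card K := fun ⟨t, ht⟩ => hdiv ⟨t, by rw [← hKcard, ht]; ring⟩
  have hK : K = ⊥ := by
    by_contra hK
    obtain ⟨k, hk, hk1⟩ := K.bot_or_exists_ne_one.resolve_left hK
    obtain ⟨z, hz⟩ : ∃ z, (k : Perm α) z ≠ z := by
      by_contra hc; push Not at hc; exact hk1 (Subtype.ext (Equiv.ext hc))
    have hzx : z ∈ x.support := hsub _ k.2 (mem_support.2 hz)
    let X : H2 := ⟨x, hxH2⟩
    let O : Set α := MulAction.orbit K z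
    have hO2 : 2 ≤ O.ncard := by
      refine (Set.one_lt_ncard).2 ⟨z, MulAction.mem_orbit_self _, _, ⟨⟨k, hk⟩, rfl⟩, ?_⟩
      exact fun h => hz h.symm
    have hOdvd : O.ncard ∣ Nat.card K := by
      rw [← MulAction.index_stabilizer]; exact Subgroup.index_dvd_card _
    have hOsub : ∀ w ∈ O, w ∈ x.support := by
      rintro w ⟨⟨k', hk'⟩, rfl⟩
      rw [mem_support] at hzx ⊢
      intro h
      have h' : ((k' : H2) : Perm α) ((k' : Perm α) z) = (k' : Perm α) z := by
        rcases (hxfix _).1 h with e | e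
        · exact (congrArg _ e).trans ((k'.2.1.2 : (k' : Perm α) a = a).trans e.symm)
        · exact (congrArg _ e).trans ((k'.2.2 : (k' : Perm α) b = b).trans e.symm)
      exact hzx ((k' : Perm α).injective h' ▸ h)
    have horb : ∀ i : ℤ, X ^ i • O = MulAction.orbit K ((x ^ i) z) := by
      intro i
      have e0 : ((X ^ i : H2) : Perm α) = x ^ i := by simp [X]
      ext w
      constructor
      · rintro ⟨_, ⟨⟨k', hk'⟩, rfl⟩, rfl⟩
        refine ⟨⟨X ^ i * k' * (X ^ i)⁻¹, hKn.conj_mem k' hk' _⟩, ?_⟩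
        show ((X ^ i * k' * (X ^ i)⁻¹ : H2) : Perm α) ((x ^ i) z) = ((X ^ i : H2) : Perm α) ((k' : Perm α) z)
        simp [e0, mul_apply]
      · rintro ⟨⟨k', hk'⟩, rfl⟩
        refine ⟨_, ⟨⟨(X ^ i)⁻¹ * k' * X ^ i, by simpa using hKn.conj_mem k' hk' (X ^ i)⁻¹⟩, rfl⟩, ?_⟩
        show ((X ^ i : H2) : Perm α) ((((X ^ i)⁻¹ * k' * X ^ i : H2) : Perm α) z) = (k' : Perm α) ((x ^ i) z)
        simp [e0, mul_apply]
    have hnot : ∀ i : ℤ, ¬ (11 : ℤ) ∣ i → (x ^ i) z ∉ O := by
      intro i hi hmem
      have h1 : X ^ i • O = O := by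
        rw [horb]
        exact MulAction.orbit_eq_iff.2 hmem
      have hX : X ∈ stabilizer H2 O := by
        have hco : IsCoprime (11 : ℤ) i :=
          ((Nat.prime_iff_prime_int.1 (by norm_num : Nat.Prime 11)).coprime_iff_not_dvd).2 hi
        obtain ⟨u, v, huv⟩ := hco
        have hX11 : X ^ (11 : ℤ) = 1 := Subtype.ext (by
          show (x ^ (11 : ℤ) : Perm α) = 1
          rw [show ((11 : ℤ)) = ((11 : ℕ) : ℤ) from rfl, zpow_natCast, ← hx11, pow_orderOf_eq_one])
        have e : X = (X ^ i) ^ v := by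
          conv_lhs => rw [← zpow_one X, ← huv, zpow_add, mul_comm u, zpow_mul, hX11, one_zpow, one_mul]
          rw [← zpow_mul, mul_comm]
        rw [e]
        exact zpow_mem (show X ^ i ∈ stabilizer H2 O from h1) v
      have hall : ∀ j : ℤ, (x ^ j) z ∈ O := fun j => by
        have h2 : X ^ j • O = O := zpow_mem hX j
        rw [← h2]
        exact ⟨z, MulAction.mem_orbit_self _, by show ((X ^ j : H2) : Perm α) z = _; simp [X]⟩
      have hge : 11 ≤ O.ncard := by
        rw [← hxs, ← Set.ncard_coe_finset]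
        refine Set.ncard_le_ncard (fun w hw => ?_) (Set.toFinite _)
        obtain ⟨j, rfl⟩ := hxc.exists_zpow_eq (mem_support.1 hzx) (mem_support.1 hw)
        exact hall j
      have hle : O.ncard ≤ 11 := by
        rw [← hxs, ← Set.ncard_coe_finset]
        exact Set.ncard_le_ncard (fun w hw => hOsub w hw) (Set.toFinite _)
      exact hK11 ((show O.ncard = 11 by omega) ▸ hOdvd)
    obtain ⟨j, hj⟩ := hxc.exists_zpow_eq (mem_support.1 hzx)
      (mem_support.1 (hOsub _ ⟨⟨k, hk⟩, rfl⟩))
    refine hnot j ?_ (by rw [hj]; exact ⟨⟨k, hk⟩, rfl⟩)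
    intro hd
    exact hz (hj.symm.trans ((zpow_apply_eq_iff_dvd (by norm_num : Nat.Prime 11)
      (hx11 ▸ pow_orderOf_eq_one x) (mem_support.1 hzx) j).2 hd))
  rw [hK, Subgroup.card_bot, one_mul] at hKcard
  obtain ⟨M, hMn, hM1, hM12⟩ := normal_of_card_132 (H := H1) (by omega)
  haveI := hMn
  obtain ⟨hf, h2⟩ := stab_two G h3 a
  have h12 := dvd_card_of_normal _ M hM1 _ hf h2
  rw [Finset.card_erase_of_mem (Finset.mem_univ a), Finset.card_univ, hn] at h12
  exact hM12 h12

end Cfsg.Agent.TwoCycles
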